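import Cfsg.Agent.CosetEnum.J2U.BData

/-! Certificate of a coset enumeration (generated data, owner: helper58). -/

set_option autoImplicit false
set_option maxRecDepth 1000000

namespace Cfsg.Agent.CosetEnum.J2UB

def ck0 : CK := .cons 32 32 0x8403202100c800000000880240000001100480000000048004800000000400200100080c4000032011000420190148004000000190088000420022009000000004806400009000000800c80040000800401200900004401201100480021000100c8000220090004200020042011004800000290011008800880000a400008044002011000800290088004001080108010801080440004012041003900310021001900080240820072006200420210001008810400e400c400048024002000200020002003202100880440084002021000808400201900c800401201901c800403201100c8044022009004800402203100880c4002011004802402201100080240520090148024052001000802401200100080240420090108024042001000800400200101080640420190108064000c804403201100c80440008802402200900880240004800480048000800400200100080040080040020010008004 ( .nil )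

theorem part0 : chunks P L 32 ck0 0 32 = true := by decide +kernel

end Cfsg.Agent.CosetEnum.J2UB
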